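import Mathlib.NumberTheory.Multiplicity
import Mathlib.NumberTheory.LSeries.PrimesInAP
import Mathlib.RingTheory.ZMod.UnitsCyclic
import Mathlib.Data.Nat.Factorization.Basic

/-!
# The gcd of `∏ (ℓ^(2a) - 1)` over large primes `ℓ`
-/

open Finset

namespace Groth.Agent.GLDivLib

/-- `∏_{a ≤ g} (ℓ^(2a) - 1)` -/
def E (g ℓ : ℕ) : ℕ := ∏ a ∈ Icc 1 g, (ℓ ^ (2 * a) - 1)

lemma factor_ne_zero {ℓ a : ℕ} (hℓ : 2 ≤ ℓ) (ha : a ≠ 0) : ℓ ^ (2 * a) - 1 ≠ 0 :=
  Nat.sub_ne_zero_of_lt (Nat.one_lt_pow (by omega) (by omega))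

lemma E_ne_zero {g ℓ : ℕ} (hℓ : 2 ≤ ℓ) : E g ℓ ≠ 0 :=
  Finset.prod_ne_zero_iff.2 fun a ha => factor_ne_zero hℓ (by rw [mem_Icc] at ha; omega)

lemma val_prod {ι : Type*} (p : ℕ) [Fact p.Prime] (s : Finset ι) (f : ι → ℕ)
    (h : ∀ a ∈ s, f a ≠ 0) : padicValNat p (∏ a ∈ s, f a) = ∑ a ∈ s, padicValNat p (f a) := by
  classical
  induction s using Finset.induction_on with
  | empty => simp
  | insert a s ha ih =>
    rw [Finset.prod_insert ha, Finset.sum_insert ha, padicValNat.mul (h a (mem_insert_self a s))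
      (Finset.prod_ne_zero_iff.2 fun b hb => h b (mem_insert_of_mem hb)),
      ih fun b hb => h b (mem_insert_of_mem hb)]

lemma val_two_factor {ℓ a : ℕ} (hℓ : 2 ≤ ℓ) (ho : Odd ℓ) (ha : a ≠ 0) :
    padicValNat 2 (ℓ ^ (2 * a) - 1) = padicValNat 2 (ℓ ^ 2 - 1) + padicValNat 2 a := by
  have h2 : ¬ 2 ∣ ℓ := by rw [← even_iff_two_dvd]; exact Nat.not_even_iff_odd.2 ho
  have h1 := padicValNat.pow_two_sub_one (x := ℓ) (n := 2 * a) (by omega) h2 (by omega) (even_two_mul a)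
  have h0 := padicValNat.pow_two_sub_one (x := ℓ) (n := 2) (by omega) h2 two_ne_zero even_two
  rw [padicValNat.mul two_ne_zero ha] at h1
  omega

lemma val_two_E {g ℓ : ℕ} (hℓ : 2 ≤ ℓ) (ho : Odd ℓ) :
    padicValNat 2 (E g ℓ) = g * padicValNat 2 (ℓ ^ 2 - 1) + padicValNat 2 g.factorial := by
  rw [E, val_prod 2 _ _ fun a ha => factor_ne_zero hℓ (by rw [mem_Icc] at ha; omega),
    Finset.sum_congr rfl fun a ha => val_two_factor hℓ ho (by rw [mem_Icc] at ha; omega),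
    Finset.sum_add_distrib, Finset.sum_const, Nat.card_Icc, smul_eq_mul,
    ← val_prod 2 _ (fun a => a) fun a ha => by rw [mem_Icc] at ha; omega,
    ← Finset.Ico_add_one_right_eq_Icc, Finset.prod_Ico_id_eq_factorial]
  simp

lemma three_le_val_two {ℓ : ℕ} (hℓ : 2 ≤ ℓ) (ho : Odd ℓ) : 3 ≤ padicValNat 2 (ℓ ^ 2 - 1) :=
  (padicValNat_dvd_iff_le (Nat.sub_ne_zero_of_lt (Nat.one_lt_pow two_ne_zero (by omega)))).1
    (by simpa using Nat.eight_dvd_sq_sub_one_of_odd ho)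

lemma exists_prime_two (g M : ℕ) :
    ∃ ℓ, ℓ.Prime ∧ M < ℓ ∧ padicValNat 2 (E g ℓ) = 3 * g + padicValNat 2 g.factorial := by
  obtain ⟨ℓ, hgt, hp, hmod⟩ := Nat.forall_exists_prime_gt_and_eq_mod (q := 16) (a := 3)
    (by decide) (max M 2)
  have hm : ℓ % 16 = 3 := by
    have := congrArg ZMod.val hmod
    rw [ZMod.val_natCast] at this
    exact this
  have hℓ : 2 ≤ ℓ := hp.two_le
  have ho : Odd ℓ := Nat.odd_iff.2 (by omega)
  refine ⟨ℓ, hp, lt_of_le_of_lt (le_max_left _ _) hgt, ?_⟩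
  have h3 := three_le_val_two hℓ ho
  have h4 : padicValNat 2 (ℓ ^ 2 - 1) < 4 := by
    by_contra h
    have := (padicValNat_dvd_iff_le (p := 2) (n := 4)
      (Nat.sub_ne_zero_of_lt (Nat.one_lt_pow two_ne_zero (by omega)))).2 (not_lt.1 h)
    rw [← Nat.modEq_iff_dvd' (Nat.one_le_pow _ _ (by omega)), Nat.ModEq, Nat.pow_mod,
      show (2 : ℕ) ^ 4 = 16 from rfl, hm] at this
    norm_num at this
  rw [val_two_E hℓ ho]
  rw [show padicValNat 2 (ℓ ^ 2 - 1) = 3 by omega]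
  ring

/-- exponent of an odd prime -/
def e (g p : ℕ) : ℕ :=
  (2 * g) / (p - 1) + ∑ i ∈ Icc 1 ((2 * g) / (p - 1)), padicValNat p i

lemma val_E_eq_sum {g ℓ p : ℕ} [Fact p.Prime] (hℓ : 2 ≤ ℓ) (hodd : Odd p) :
    ∑ i ∈ Icc 1 ((2 * g) / (p - 1)), padicValNat p ((ℓ ^ (p - 1)) ^ i - 1) ≤ padicValNat p (E g ℓ) ∧
    ((∀ a ∈ Icc 1 g, p ∣ ℓ ^ (2 * a) - 1 → (p - 1) ∣ 2 * a) →
      padicValNat p (E g ℓ) =
        ∑ i ∈ Icc 1 ((2 * g) / (p - 1)), padicValNat p ((ℓ ^ (p - 1)) ^ i - 1)) := by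
  have hp : p.Prime := Fact.out
  obtain ⟨h, hh⟩ : ∃ h, p - 1 = 2 * h := by
    obtain ⟨k, rfl⟩ := hodd; exact ⟨k, by omega⟩
  have hh0 : 0 < h := by have := hp.two_le; omega
  have hdiv : (2 * g) / (p - 1) = g / h := by rw [hh, Nat.mul_div_mul_left _ _ two_pos]
  rw [E, val_prod p _ _ fun a ha => factor_ne_zero hℓ (by rw [mem_Icc] at ha; omega), hdiv]
  let T := (Icc 1 (g / h)).image (fun i => h * i)
  have hT : T ⊆ Icc 1 g := by
    intro x hx
    obtain ⟨i, hi, rfl⟩ := Finset.mem_image.1 hx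
    rw [mem_Icc] at hi ⊢
    exact ⟨Nat.one_le_iff_ne_zero.2 (Nat.mul_ne_zero (by omega) (by omega)),
      (Nat.mul_le_mul_left h hi.2).trans (Nat.mul_div_le g h)⟩
  have hsum : ∑ x ∈ T, padicValNat p (ℓ ^ (2 * x) - 1) =
      ∑ i ∈ Icc 1 (g / h), padicValNat p ((ℓ ^ (p - 1)) ^ i - 1) := by
    rw [Finset.sum_image fun a _ b _ hab => Nat.eq_of_mul_eq_mul_left hh0 hab]
    refine Finset.sum_congr rfl fun i _ => ?_
    rw [hh, ← pow_mul, mul_assoc]
  rw [← hsum]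
  refine ⟨Finset.sum_le_sum_of_subset hT, fun hd => (Finset.sum_subset hT fun x hx hxT => ?_).symm⟩
  refine padicValNat.eq_zero_of_not_dvd fun hdvd => hxT ?_
  obtain ⟨i, hi⟩ := hd x hx hdvd
  rw [mem_Icc] at hx
  have hxi : x = h * i := by
    rw [hh, mul_assoc] at hi
    exact Nat.eq_of_mul_eq_mul_left two_pos hi
  refine Finset.mem_image.2 ⟨i, mem_Icc.2 ⟨?_, ?_⟩, hxi.symm⟩
  · exact Nat.one_le_iff_ne_zero.2 fun h0 => by rw [h0, mul_zero] at hxi; omega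
  · rw [Nat.le_div_iff_mul_le hh0, mul_comm, ← hxi]; exact hx.2

lemma val_pow_sub_one {ℓ p i : ℕ} [Fact p.Prime] (hℓ : 2 ≤ ℓ) (hodd : Odd p) (hne : ¬ p ∣ ℓ)
    (hi : i ≠ 0) :
    padicValNat p ((ℓ ^ (p - 1)) ^ i - 1) = padicValNat p (ℓ ^ (p - 1) - 1) + padicValNat p i := by
  have hp : p.Prime := Fact.out
  have hF : p ∣ ℓ ^ (p - 1) - 1 :=
    (Nat.modEq_iff_dvd' (Nat.one_le_pow _ _ (by omega))).1
      (Nat.ModEq.pow_card_sub_one_eq_one hp ((Nat.Prime.coprime_iff_not_dvd hp).2 hne).symm).symm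
  have := padicValNat.pow_sub_pow (p := p) (x := ℓ ^ (p - 1)) (y := 1) hodd
    (Nat.one_lt_pow (by have := hp.two_le; omega) (by omega)) hF
    (fun h => hne (hp.dvd_of_dvd_pow h)) hi
  simpa using this

lemma e_le {g ℓ p : ℕ} [Fact p.Prime] (hℓ : 2 ≤ ℓ) (hodd : Odd p) (hne : ¬ p ∣ ℓ) :
    e g p ≤ padicValNat p (E g ℓ) := by
  refine le_trans ?_ (val_E_eq_sum hℓ hodd).1
  rw [e, Finset.sum_congr rfl fun i hi => val_pow_sub_one hℓ hodd hne
    (i := i) (by rw [mem_Icc] at hi; omega), Finset.sum_add_distrib, Finset.sum_const,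
    Nat.card_Icc, smul_eq_mul, Nat.add_sub_cancel]
  have hp : p.Prime := Fact.out
  have hF : p ∣ ℓ ^ (p - 1) - 1 :=
    (Nat.modEq_iff_dvd' (Nat.one_le_pow _ _ (by omega))).1
      (Nat.ModEq.pow_card_sub_one_eq_one hp ((Nat.Prime.coprime_iff_not_dvd hp).2 hne).symm).symm
  have h1 : 1 ≤ padicValNat p (ℓ ^ (p - 1) - 1) := one_le_padicValNat_of_dvd
    (Nat.sub_ne_zero_of_lt (Nat.one_lt_pow (by have := hp.two_le; omega) (by omega))) hF
  exact Nat.add_le_add_right (Nat.le_mul_of_pos_right _ h1) _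

lemma exists_prime_odd (g M p : ℕ) [Fact p.Prime] (hodd : Odd p) :
    ∃ ℓ, ℓ.Prime ∧ M < ℓ ∧ padicValNat p (E g ℓ) = e g p := by
  have hp : p.Prime := Fact.out
  have hp2 : p ≠ 2 := by rintro rfl; exact absurd hodd (by decide)
  haveI : NeZero (p ^ 2) := ⟨pow_ne_zero _ hp.ne_zero⟩
  haveI : IsCyclic (ZMod (p ^ 2))ˣ := ZMod.isCyclic_units_of_prime_pow p hp hp2 2
  obtain ⟨u, hu⟩ := IsCyclic.exists_ofOrder_eq_natCard (α := (ZMod (p ^ 2))ˣ)
  rw [Nat.card_eq_fintype_card, ZMod.card_units_eq_totient, Nat.totient_prime_pow hp two_pos] at hu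
  obtain ⟨ℓ, hgt, hℓp, hmod⟩ := Nat.forall_exists_prime_gt_and_eq_mod u.isUnit (max M p)
  have hℓ : 2 ≤ ℓ := hℓp.two_le
  have hpow : ∀ m, p ^ 2 ∣ ℓ ^ m - 1 → p * (p - 1) ∣ m := fun m hm => by
    have h : u ^ m = 1 := by
      ext
      rw [Units.val_pow_eq_pow_val, ← hmod, ← Nat.cast_pow, Units.val_one, ← Nat.cast_one,
        ZMod.natCast_eq_natCast_iff]
      exact ((Nat.modEq_iff_dvd' (Nat.one_le_pow _ _ (by omega))).2 hm).symm
    have := orderOf_dvd_of_pow_eq_one h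
    rw [hu] at this
    simpa using this
  have hne : ¬ p ∣ ℓ := fun h => by
    have := (Nat.prime_dvd_prime_iff_eq hp hℓp).1 h
    have := le_max_right M p
    omega
  refine ⟨ℓ, hℓp, lt_of_le_of_lt (le_max_left _ _) hgt, ?_⟩
  have hpp : 1 ≤ p - 1 := by have := hp.two_le; omega
  have hv : padicValNat p (ℓ ^ (p - 1) - 1) = 1 := by
    refine le_antisymm (by_contra fun h => ?_) (one_le_padicValNat_of_dvd
      (Nat.sub_ne_zero_of_lt (Nat.one_lt_pow (by omega) (by omega)))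
      ((Nat.modEq_iff_dvd' (Nat.one_le_pow _ _ (by omega))).1
        (Nat.ModEq.pow_card_sub_one_eq_one hp ((Nat.Prime.coprime_iff_not_dvd hp).2 hne).symm).symm))
    have h2 : p ^ 2 ∣ ℓ ^ (p - 1) - 1 := (padicValNat_dvd_iff_le (p := p)
      (Nat.sub_ne_zero_of_lt (Nat.one_lt_pow (by omega) (by omega)))).2 (by omega)
    have h3 := Nat.le_of_dvd (by omega) (hpow _ h2)
    have h4 : p - 1 < p * (p - 1) := lt_mul_of_one_lt_left (by omega) hp.one_lt
    omega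
  rw [(val_E_eq_sum hℓ hodd).2 ?_, e, Finset.sum_congr rfl fun i hi => val_pow_sub_one hℓ hodd hne
    (i := i) (by rw [mem_Icc] at hi; omega), Finset.sum_add_distrib, Finset.sum_const,
    Nat.card_Icc, hv, smul_eq_mul, mul_one, Nat.add_sub_cancel]
  intro a _ hdvd
  have h2 : p ^ 2 ∣ ℓ ^ (2 * a * p) - 1 := by
    rw [pow_mul]
    rcases eq_or_ne a 0 with rfl | ha
    · simp
    rw [padicValNat_dvd_iff_le (p := p)
      (Nat.sub_ne_zero_of_lt (Nat.one_lt_pow hp.ne_zero (Nat.one_lt_pow (by omega) (by omega))))]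
    have hl := padicValNat.pow_sub_pow (p := p) (x := ℓ ^ (2 * a)) (y := 1) hodd
      (Nat.one_lt_pow (by omega) (by omega)) hdvd (fun h => hne (hp.dvd_of_dvd_pow h)) hp.ne_zero
    rw [one_pow] at hl
    rw [hl, padicValNat_self]
    have := one_le_padicValNat_of_dvd (p := p) (factor_ne_zero hℓ ha) hdvd
    omega
  have h3 := hpow _ h2
  rw [mul_comm p, Nat.mul_dvd_mul_iff_right hp.pos] at h3
  exact h3

/-- the bound -/
def N (g : ℕ) : ℕ :=
  2 ^ (3 * g + padicValNat 2 g.factorial) *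
    ∏ p ∈ (Icc 3 (2 * g + 1)).filter Nat.Prime, p ^ e g p

lemma N_ne_zero (g : ℕ) : N g ≠ 0 :=
  Nat.mul_ne_zero (by positivity) (Finset.prod_ne_zero_iff.2 fun p hp =>
    pow_ne_zero _ (Finset.mem_filter.1 hp).2.ne_zero)

lemma e_eq_zero {g p : ℕ} (h : 2 * g + 1 < p) : e g p = 0 := by
  rw [e, Nat.div_eq_of_lt (by omega)]; simp

lemma val_N (g p : ℕ) [Fact p.Prime] :
    padicValNat p (N g) = if p = 2 then 3 * g + padicValNat 2 g.factorial else e g p := by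
  have hp : p.Prime := Fact.out
  rw [N, padicValNat.mul (by positivity) (Finset.prod_ne_zero_iff.2 fun q hq =>
    pow_ne_zero _ (Finset.mem_filter.1 hq).2.ne_zero),
    val_prod p _ _ (fun q hq => pow_ne_zero _ (Finset.mem_filter.1 hq).2.ne_zero)]
  have hkey : ∀ q n : ℕ, q.Prime → padicValNat p (q ^ n) = if q = p then n else 0 := by
    intro q n hq
    rcases eq_or_ne q p with rfl | hne
    · rw [if_pos rfl, padicValNat.prime_pow]
    · rw [if_neg hne, padicValNat.eq_zero_of_not_dvd]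
      exact fun h => hne ((Nat.prime_dvd_prime_iff_eq hp hq).1 (hp.dvd_of_dvd_pow h)).symm
  rw [hkey 2 _ Nat.prime_two, Finset.sum_congr rfl fun q hq => hkey q _ (Finset.mem_filter.1 hq).2,
    Finset.sum_ite_eq']
  by_cases h2 : p = 2
  · subst h2
    simp
  · rw [if_neg (Ne.symm h2), if_neg h2, zero_add]
    by_cases hm : p ≤ 2 * g + 1
    · rw [if_pos]
      have := hp.two_le
      exact Finset.mem_filter.2 ⟨mem_Icc.2 ⟨by omega, hm⟩, hp⟩
    · rw [if_neg, e_eq_zero (not_le.1 hm)]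
      exact fun h => hm (mem_Icc.1 (Finset.mem_filter.1 h).1).2

theorem dvd_E_iff (g B d : ℕ) (hB : 2 * g + 1 ≤ B) :
    (∀ ℓ : ℕ, ℓ.Prime → B < ℓ → d ∣ E g ℓ) ↔ d ∣ N g := by
  constructor
  · intro h
    obtain ⟨ℓ₀, hgt₀, hp₀⟩ := Nat.exists_infinite_primes (B + 1)
    have hd : d ≠ 0 := by
      rintro rfl
      exact E_ne_zero hp₀.two_le (zero_dvd_iff.1 (h ℓ₀ hp₀ (by omega)))
    rw [← Nat.factorization_le_iff_dvd hd (N_ne_zero g)]
    intro p
    by_cases hp : p.Prime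
    swap
    · simp [hp]
    haveI := Fact.mk hp
    rw [Nat.factorization_def _ hp, Nat.factorization_def _ hp, val_N]
    obtain ⟨ℓ, hℓ, hgt, hv⟩ : ∃ ℓ, ℓ.Prime ∧ B < ℓ ∧
        padicValNat p (E g ℓ) = if p = 2 then 3 * g + padicValNat 2 g.factorial else e g p := by
      by_cases h2 : p = 2
      · subst h2; simpa using exists_prime_two g B
      · simp only [if_neg h2]; exact exists_prime_odd g B p (hp.odd_of_ne_two h2)
    rw [← hv]
    exact (padicValNat_dvd_iff_le (E_ne_zero hℓ.two_le)).1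
      (pow_padicValNat_dvd.trans (h ℓ hℓ hgt))
  · intro h ℓ hℓ hgt
    refine h.trans ?_
    rw [← Nat.factorization_le_iff_dvd (N_ne_zero g) (E_ne_zero hℓ.two_le)]
    intro p
    by_cases hp : p.Prime
    swap
    · simp [hp]
    haveI := Fact.mk hp
    rw [Nat.factorization_def _ hp, Nat.factorization_def _ hp, val_N]
    rcases eq_or_ne g 0 with rfl | hg
    · split_ifs <;> simp [e]
    have ho : Odd ℓ := hℓ.odd_of_ne_two (by omega)
    split_ifs with h2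
    · subst h2
      rw [val_two_E hℓ.two_le ho]
      have := Nat.mul_le_mul_left g (three_le_val_two hℓ.two_le ho)
      omega
    · by_cases hne : p ∣ ℓ
      · have := (Nat.prime_dvd_prime_iff_eq hp hℓ).1 hne
        rw [e_eq_zero (by omega)]
        exact Nat.zero_le _
      · exact e_le hℓ.two_le (hp.odd_of_ne_two h2) hne

end Groth.Agent.GLDivLib
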